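import Cfsg.Agent.Lib.AltCent.Stab

/-!
The module of the alternating group on the smallest section of the kernel.
-/

set_option autoImplicit false
set_option linter.style.haveILetI false

namespace CfsgLib.AltCent

open Equiv

universe u

variable {p n : ℕ} {H : Type u} [Group H] {π : H →* Perm (Fin n)}

/-- A non-central kernel gives a non-zero module in which non-solvable subgroups fix nothing. -/
theorem false_of_module [Finite H] [hp : Fact p.Prime] (hs : Setup p n H π)
    (hK : ¬ π.ker ≤ Subgroup.center H)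
    (huniv : ∀ (A : Type u) [AddCommGroup A] (ρ : Perm (Fin n) → A →+ A),
      (∀ a, ρ 1 a = a) →
      (∀ σ τ, Perm.sign σ = 1 → Perm.sign τ = 1 → ∀ a, ρ (σ * τ) a = ρ σ (ρ τ a)) →
      (∀ a : A, p • a = 0) →
      (∀ σ τ, Perm.sign σ = 1 → Perm.sign τ = 1 →
        ¬ Group.IsSolvable (Subgroup.closure ({σ, τ} : Set (Perm (Fin n)))) →
        ∀ a, ρ σ a = a → ρ τ a = a → a = 0) →
      ∀ a : A, a = 0) : False := by
  classical
  obtain ⟨Z, hZn, W, hWn, hWne, hZc, hZeq, hWK, hcent, hexp, -⟩ := exists_bottom hs hK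
  set q := QuotientGroup.mk' Z with hq
  have hlift : ∀ σ : Perm (Fin n), ∃ g : H, Perm.sign σ = 1 → π g = σ := fun σ => by
    by_cases h : Perm.sign σ = 1
    · obtain ⟨g, hg⟩ := (hs.range.symm ▸ (Perm.mem_alternatingGroup.2 h) : σ ∈ π.range)
      exact ⟨g, fun _ => hg⟩
    · exact ⟨1, fun h' => absurd h' h⟩
  choose s hs' using hlift
  have hswap : ∀ g g' : H, π g = π g' → ∀ w ∈ W, q g * w * (q g)⁻¹ = q g' * w * (q g')⁻¹ := by
    intro g g' hgg w hw
    have hk : q (g'⁻¹ * g) ∈ π.ker.map q := Subgroup.mem_map_of_mem q (by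
      rw [MonoidHom.mem_ker, map_mul, map_inv, hgg, inv_mul_cancel])
    have h1 := hcent _ hk w hw
    have h2 : q g = q g' * q (g'⁻¹ * g) := by rw [← map_mul, mul_inv_cancel_left]
    rw [h2, mul_inv_rev, mul_assoc (q g'), h1]
    group
  letI : CommGroup W := { (inferInstance : Group W) with
    mul_comm := fun a b => Subtype.ext (hcent a.1 (hWK a.2) b.1 b.2) }
  let c : H → W →* W := fun g =>
    MonoidHom.mk' (fun w => ⟨q g * w.1 * (q g)⁻¹, hWn.conj_mem _ w.2 _⟩) fun a b =>
      Subtype.ext (by simp [mul_assoc])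
  let ρ : Perm (Fin n) → Additive W →+ Additive W := fun σ => MonoidHom.toAdditive (c (s σ))
  have hρ : ∀ σ (a : Additive W), ((ρ σ a).toMul : H ⧸ Z) =
      q (s σ) * (a.toMul : H ⧸ Z) * (q (s σ))⁻¹ := fun σ a => rfl
  refine hWne ((Subgroup.eq_bot_iff_forall W).2 fun w hw => ?_)
  suffices h : Additive.ofMul (⟨w, hw⟩ : W) = 0 from
    congrArg Subtype.val (ofMul_eq_zero.1 h)
  refine huniv (Additive W) ρ ?_ ?_ ?_ ?_ _
  · intro a
    refine Additive.toMul.injective (Subtype.ext ?_)
    rw [hρ, hswap (s 1) 1 (by rw [hs' 1 (map_one _), map_one]) _ a.toMul.2, map_one, one_mul,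
      inv_one, mul_one]
  · intro σ τ hσ hτ a
    refine Additive.toMul.injective (Subtype.ext ?_)
    rw [hρ, hρ, hρ, hswap (s (σ * τ)) (s σ * s τ) (by
      rw [hs' _ (by rw [map_mul, hσ, hτ, one_mul]), map_mul, hs' σ hσ, hs' τ hτ]) _ a.toMul.2,
      map_mul, mul_inv_rev]
    simp only [mul_assoc]
  · intro a
    refine Additive.toMul.injective (Subtype.ext ?_)
    rw [toMul_nsmul, toMul_zero, SubmonoidClass.coe_pow, hexp _ a.toMul.2]
    rfl
  · intro σ τ hσ hτ hns a haσ haτ
    obtain ⟨z, hz, hzw⟩ := hWK a.toMul.2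
    by_cases hzc : z ∈ Subgroup.center H
    · refine Additive.toMul.injective (Subtype.ext ?_)
      rw [toMul_zero, ← hzw, hq, QuotientGroup.mk'_apply, OneMemClass.coe_one,
        QuotientGroup.eq_one_iff, hZeq]
      exact ⟨hz, hzc⟩
    exfalso
    refine false_of_stab hs (U := (Subgroup.centralizer ({q z} : Set (H ⧸ Z))).comap q)
      ?_ hns hzc (exists_orderOf_ker hs hz) ?_
    · rw [Subgroup.closure_le]
      intro x hx
      have key : ∀ μ, Perm.sign μ = 1 → ρ μ a = a →
          μ ∈ ((Subgroup.centralizer ({q z} : Set (H ⧸ Z))).comap q).map π := fun μ hμ hμa => by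
        refine ⟨s μ, ?_, hs' μ hμ⟩
        rw [SetLike.mem_coe, Subgroup.mem_comap, Subgroup.mem_centralizer_singleton_iff, hzw]
        have h1 := congrArg (fun b : Additive W => (b.toMul : H ⧸ Z)) hμa
        simp only [hρ] at h1
        exact mul_inv_eq_iff_eq_mul.1 h1
      rcases hx with rfl | hx
      · exact key _ hσ haσ
      · rw [Set.mem_singleton_iff.1 hx]
        exact key _ hτ haτ
    · intro u hu
      refine hZc ?_
      rw [← QuotientGroup.eq_one_iff, ← QuotientGroup.mk'_apply, ← hq, map_mul, map_mul, map_mul,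
        map_inv, map_inv]
      rw [Subgroup.mem_comap, Subgroup.mem_centralizer_singleton_iff] at hu
      rw [hu, mul_inv_cancel_right, mul_inv_cancel]

/-- A central kernel: a `p`-element fixing five points. -/
theorem false_of_central_block [Finite H] [hp : Fact p.Prime] (hn : 5 ≤ n) (hs : Setup p n H π)
    (hK : π.ker ≤ Subgroup.center H) {x : Perm (Fin n)} (hsx : Perm.sign x = 1) (hx1 : x ≠ 1)
    (hxp : ∃ k : ℕ, orderOf x = p ^ k) (f : Fin 5 ↪ Fin n) (hfix : ∀ j, x (f j) = f j) : False := by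
  let ψ : alternatingGroup (Fin 5) →* Perm (Fin n) :=
    (Perm.viaEmbeddingHom f).comp (alternatingGroup (Fin 5)).subtype
  have hψ : Function.Injective ψ :=
    (Perm.viaEmbeddingHom_injective f).comp Subtype.val_injective
  refine false_of_central hn hs hK (Perm.mem_alternatingGroup.2 hsx) hx1 hxp (X := ψ.range)
    ?_ ?_ ?_
  · rintro _ ⟨σ, rfl⟩
    rw [Perm.mem_alternatingGroup, MonoidHom.comp_apply, Perm.viaEmbeddingHom_apply,
      Perm.viaEmbedding, Perm.sign_extendDomain]
    exact Perm.mem_alternatingGroup.1 σ.2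
  · intro h
    haveI := h
    exact isPerfect_alt le_rfl
      (Group.isSolvable_of_isSolvable_injective (MonoidHom.ofInjective hψ).injective)
  · rintro _ ⟨σ, rfl⟩
    refine Perm.Disjoint.commute fun i => ?_
    by_cases h : i ∈ Set.range f
    · obtain ⟨a, rfl⟩ := h
      exact Or.inr (hfix a)
    · exact Or.inl (Perm.viaEmbedding_apply_of_notMem _ _ _ h)

end CfsgLib.AltCent
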