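import Cfsg.Agent.Lib.AltCent.Bottom
import Cfsg.Agent.Lib.AltCent.Hecke.Universal
import Cfsg.Agent.Lib.AltCent.Hecke.Perfect

/-!
The prime five.
-/

set_option autoImplicit false
set_option linter.style.haveILetI false

namespace CfsgLib.AltCent

open Equiv

universe u

/-- There is no set-up for the prime five in degree ten. -/
theorem false_five {H : Type u} [Group H] [Finite H] {π : H →* Perm (Fin 10)}
    [hp : Fact (Nat.Prime 5)] (hs : Setup 5 10 H π) : False := by
  by_cases hK : π.ker ≤ Subgroup.center H
  · let x : Perm (Fin 10) := swap 0 1 * swap 1 2 * swap 2 3 * swap 3 4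
    have hx1 : x ≠ 1 := by decide +kernel
    refine false_of_central_block (by norm_num) hs hK (x := x) (by decide +kernel) hx1
      ⟨1, ?_⟩ (Fin.natAddEmb 5) (by decide +kernel)
    rw [pow_one]
    exact orderOf_eq_prime (by decide +kernel) hx1
  · refine false_of_module hs hK fun A _ ρ h1 hmul h5 hnf a => ?_
    refine Hecke.universal ⟨ρ, h1, hmul, h5⟩ (fun i hi b hba hbb => ?_) a
    have he := Hecke.dataSpec.gEven i hi
    exact hnf _ _ (Hecke.rep_of_evenCode he.1).2 (Hecke.rep_of_evenCode he.2).2
      (Hecke.not_isSolvable_listed hi) b hba hbb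

end CfsgLib.AltCent
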