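import Cfsg.Agent.Lib.AltCent.Setup

/-!
Coprime lifting of commuting subgroups, and the case of the primes at least seven.
-/

set_option autoImplicit false
set_option linter.style.haveILetI false

namespace CfsgLib.AltCent

open Equiv

universe u

variable {p n : ℕ} {H : Type u} [Group H] {π : H →* Perm (Fin n)}

theorem isPerfect_alt (hn : 5 ≤ n) : ¬ Group.IsSolvable (alternatingGroup (Fin n)) := by
  haveI : Nontrivial (alternatingGroup (Fin n)) :=
    alternatingGroup.nontrivial_of_three_le_card (by rw [Nat.card_fin]; omega)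
  haveI : Group.IsPerfect (alternatingGroup (Fin n)) :=
    ⟨commutator_alternatingGroup_eq_top (by simpa using hn)⟩
  exact Group.IsPerfect.not_isSolvable _

/-- A central element lies in the kernel. -/
theorem center_le_ker (hn : 5 ≤ n) (hr : π.range = alternatingGroup (Fin n)) :
    Subgroup.center H ≤ π.ker := by
  intro x hx
  by_contra hne
  obtain ⟨a, ha⟩ : ∃ a, π x a ≠ a := by
    by_contra hh
    push Not at hh
    exact hne (MonoidHom.mem_ker.2 (Perm.ext hh))
  set b := π x a with hb
  obtain ⟨c, hca, hcb⟩ : ∃ c, c ≠ a ∧ c ≠ b := by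
    have h : ({a, b} : Finset (Fin n)).card < Fintype.card (Fin n) :=
      Finset.card_le_two.trans_lt (by rw [Fintype.card_fin]; omega)
    obtain ⟨c, -, hc⟩ := Finset.exists_mem_notMem_of_card_lt_card (h.trans_eq Finset.card_univ.symm)
    exact ⟨c, fun h => hc (by simp [h]), fun h => hc (by simp [h])⟩
  obtain ⟨d, hda, hdb, hdc⟩ : ∃ d, d ≠ a ∧ d ≠ b ∧ d ≠ c := by
    have h : ({a, b, c} : Finset (Fin n)).card < Fintype.card (Fin n) :=
      Finset.card_le_three.trans_lt (by rw [Fintype.card_fin]; omega)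
    obtain ⟨d, -, hd⟩ := Finset.exists_mem_notMem_of_card_lt_card (h.trans_eq Finset.card_univ.symm)
    exact ⟨d, fun h => hd (by simp [h]), fun h => hd (by simp [h]), fun h => hd (by simp [h])⟩
  set τ := swap b c * swap c d with hτ
  have hτA : τ ∈ alternatingGroup (Fin n) := by
    rw [hτ, Perm.mem_alternatingGroup, Perm.sign_mul, Perm.sign_swap hcb.symm,
      Perm.sign_swap hdc.symm]
    decide
  obtain ⟨g, hg⟩ := (hr.symm ▸ hτA : τ ∈ π.range)
  have h1 : τ (π x a) = π x (τ a) := by
    rw [← hg, ← Perm.mul_apply, ← Perm.mul_apply, ← map_mul, ← map_mul,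
      Subgroup.mem_center_iff.1 hx g]
  have h2 : τ a = a := by
    rw [hτ, Perm.mul_apply, swap_apply_of_ne_of_ne hca.symm hda.symm,
      swap_apply_of_ne_of_ne ha.symm hca.symm]
  rw [h2, ← hb, hτ, Perm.mul_apply, swap_apply_of_ne_of_ne hcb.symm hdb.symm, swap_apply_left] at h1
  exact hcb h1

theorem isPGroup_comap (hs : Setup p n H π) {X : Subgroup (Perm (Fin n))} (hX : IsPGroup p X) :
    IsPGroup p (X.comap π) :=
  hX.comap_of_ker_isPGroup π hs.ker

/-- Every subgroup of order prime to `p` of the quotient lifts. -/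
theorem exists_cover [Finite H] [hp : Fact p.Prime] (hs : Setup p n H π)
    {X : Subgroup (Perm (Fin n))} (hX : X ≤ alternatingGroup (Fin n))
    (hcop : ¬ p ∣ Nat.card X) :
    ∃ M : Subgroup H, M.map π = X ∧ Nat.card M = Nat.card X := by
  classical
  set U := X.comap π with hU
  have hKU : π.ker ≤ U := fun x hx => by
    rw [hU, Subgroup.mem_comap, MonoidHom.mem_ker.1 hx]; exact one_mem _
  have hUX : U.map π = X := by
    rw [hU, Subgroup.map_comap_eq, hs.range, inf_eq_right.2 hX]
  have hrel : π.ker.relIndex U = Nat.card X := by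
    rw [← hUX, Subgroup.relIndex_ker]
  obtain ⟨k, hk⟩ := IsPGroup.iff_card.1 hs.ker
  obtain ⟨B, -, hBc, hBs⟩ := CfsgLib.Coprime.exists_complement_in hKU
    Subgroup.le_normalizer_of_normal (by
      rw [hrel, hk]; exact (hp.out.coprime_iff_not_dvd.2 hcop).pow_left k)
  refine ⟨B, ?_, hBc.trans hrel⟩
  rw [← hUX, ← hBs, Subgroup.map_sup, (Subgroup.map_eq_bot_iff _).2 le_rfl, bot_sup_eq]

theorem cover_not_solvable {X : Subgroup (Perm (Fin n))} {M : Subgroup H} (hM : M.map π = X)
    (hX : ¬ Group.IsSolvable X) : ¬ Group.IsSolvable M := by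
  intro h
  haveI := h
  exact hX (hM ▸ Group.isSolvable_of_surjective (MonoidHom.subgroupMap_surjective π M))

/-- A `p`-element centralised by a non-solvable subgroup is central. -/
theorem mem_center_of_fixed (hs : Setup p n H π) {M : Subgroup H} (hM : ¬ Group.IsSolvable M)
    {c : H} (hc : ∀ m ∈ M, m * c = c * m) (hco : ∃ k : ℕ, orderOf c = p ^ k) :
    c ∈ Subgroup.center H := by
  by_contra hcc
  haveI := hs.solv c hcc hco
  exact hM (Group.isSolvable_of_isSolvable_injective
    (Subgroup.inclusion_injective (H := M) (K := Subgroup.centralizer ({c} : Set H))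
      fun m hm => Subgroup.mem_centralizer_singleton_iff.2 (hc m hm)))

/-- A `p`-element of the quotient has no centraliser of order prime to `p` that is not solvable. -/
theorem false_of_coprime_commuting [Finite H] [hp : Fact p.Prime] (hn : 5 ≤ n) (hs : Setup p n H π)
    {x : Perm (Fin n)} (hxA : x ∈ alternatingGroup (Fin n)) (hx1 : x ≠ 1)
    (hxp : ∃ k : ℕ, orderOf x = p ^ k)
    {X : Subgroup (Perm (Fin n))} (hXA : X ≤ alternatingGroup (Fin n))
    (hcop : ¬ p ∣ Nat.card X) (hns : ¬ Group.IsSolvable X) (hcomm : ∀ m ∈ X, Commute m x) :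
    False := by
  classical
  obtain ⟨z, hz⟩ := (hs.range.symm ▸ hxA : x ∈ π.range)
  obtain ⟨M, hMX, hMc⟩ := exists_cover hs hXA hcop
  have hfix : ∀ m ∈ M, z⁻¹ * (m * z * m⁻¹) ∈ π.ker := by
    intro m hm
    rw [MonoidHom.mem_ker, map_mul, map_mul, map_mul, map_inv, map_inv, hz,
      (hcomm _ (hMX ▸ Subgroup.mem_map_of_mem π hm)).eq, mul_inv_cancel_right, inv_mul_cancel]
  obtain ⟨k, hk⟩ := IsPGroup.iff_card.1 hs.ker
  haveI : Group.IsNilpotent π.ker := hs.ker.isNilpotent
  obtain ⟨c, hc, hcz⟩ := CfsgLib.Coprime.exists_centralizing_in_coset (A := M) (N := π.ker)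
    Subgroup.le_normalizer_of_normal
    (by rw [hMc, hk]; exact ((hp.out.coprime_iff_not_dvd.2 hcop).pow_left k).symm)
    (Or.inr inferInstance) hfix
  have hπc : π c = x := by
    rw [MonoidHom.mem_ker, map_mul, map_inv, inv_mul_eq_one, hz] at hcz
    exact hcz.symm
  obtain ⟨k', hk'⟩ := hxp
  have hT : IsPGroup p ((Subgroup.zpowers x).comap π) :=
    isPGroup_comap hs (IsPGroup.of_card ((Nat.card_zpowers x).trans hk'))
  obtain ⟨i, hi⟩ := IsPGroup.iff_orderOf.1 hT ⟨c, by
    rw [Subgroup.mem_comap, hπc]; exact Subgroup.mem_zpowers x⟩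
  have hcen := mem_center_of_fixed hs (cover_not_solvable hMX hns)
    (fun m hm => Subgroup.mem_centralizer_iff.1 hc m hm)
    ⟨i, by rw [← hi, Subgroup.orderOf_mk]⟩
  exact hx1 (hπc ▸ MonoidHom.mem_ker.1 (center_le_ker hn hs.range hcen))

/-- The primes at least seven. -/
theorem false_of_seven_le [Finite H] {π : H →* Perm (Fin (p + 5))} [hp : Fact p.Prime] (h7 : 7 ≤ p)
    (hs : Setup p (p + 5) H π) : False := by
  classical
  let fx : Fin p ↪ Fin (p + 5) := Fin.castAddEmb 5
  let fy : Fin 5 ↪ Fin (p + 5) := Fin.natAddEmb p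
  set x := Perm.viaEmbeddingHom fx (finRotate p) with hx
  have hne : ∀ i j, fx i ≠ fy j := fun i j h => by
    have := congrArg Fin.val h
    simp [fx, fy] at this
    omega
  let ψ : alternatingGroup (Fin 5) →* Perm (Fin (p + 5)) :=
    (Perm.viaEmbeddingHom fy).comp (alternatingGroup (Fin 5)).subtype
  have hψ : Function.Injective ψ :=
    (Perm.viaEmbeddingHom_injective fy).comp Subtype.val_injective
  have hXA : ψ.range ≤ alternatingGroup (Fin (p + 5)) := by
    rintro _ ⟨σ, rfl⟩
    rw [Perm.mem_alternatingGroup, MonoidHom.comp_apply, Perm.viaEmbeddingHom_apply,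
      Perm.viaEmbedding, Perm.sign_extendDomain]
    exact Perm.mem_alternatingGroup.1 σ.2
  have hxA : x ∈ alternatingGroup (Fin (p + 5)) := by
    rw [Perm.mem_alternatingGroup, hx, Perm.viaEmbeddingHom_apply, Perm.viaEmbedding,
      Perm.sign_extendDomain, sign_finRotate]
    exact Even.neg_one_pow (Nat.Prime.even_sub_one hp.out (by omega))
  have hxo : orderOf x = p := by
    have h1 : (finRotate p).IsCycle := isCycle_finRotate_of_le (by omega)
    have h2 : (finRotate p).support = Finset.univ := support_finRotate_of_le (by omega)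
    rw [hx, orderOf_injective _ (Perm.viaEmbeddingHom_injective fx), h1.orderOf, h2,
      Finset.card_univ, Fintype.card_fin]
  refine false_of_coprime_commuting (by omega) hs hxA ?_ ⟨1, by rw [hxo, pow_one]⟩ hXA
    ?_ ?_ ?_
  · intro h
    rw [h, orderOf_one] at hxo
    omega
  · rw [← Nat.card_congr (MonoidHom.ofInjective hψ).toEquiv]
    intro hd
    have h2 : 2 * Nat.card (alternatingGroup (Fin 5)) = 120 := by
      rw [Nat.card_eq_fintype_card, two_mul_card_alternatingGroup, Fintype.card_perm,
        Fintype.card_fin]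
      rfl
    have h60 : p ∣ 60 := by rwa [show Nat.card (alternatingGroup (Fin 5)) = 60 by omega] at hd
    rcases (hp.out.dvd_mul).1 (show p ∣ 4 * 15 from h60) with h | h
    · have := Nat.le_of_dvd (by norm_num) h
      omega
    · rcases (hp.out.dvd_mul).1 (show p ∣ 3 * 5 from h) with h' | h' <;>
      · have := Nat.le_of_dvd (by norm_num) h'
        omega
  · intro h
    haveI := h
    exact isPerfect_alt le_rfl
      (Group.isSolvable_of_isSolvable_injective (MonoidHom.ofInjective hψ).injective)
  · rintro _ ⟨σ, rfl⟩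
    refine Perm.Disjoint.commute fun i => ?_
    by_cases h : i ∈ Set.range fx
    · obtain ⟨a, rfl⟩ := h
      left
      show Perm.viaEmbedding (σ : Perm (Fin 5)) fy (fx a) = fx a
      exact Perm.viaEmbedding_apply_of_notMem _ _ _ (by
        rintro ⟨b, hb⟩; exact hne a b hb.symm)
    · right
      exact Perm.viaEmbedding_apply_of_notMem _ _ _ h

end CfsgLib.AltCent
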