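import Cfsg.Agent.Lib.Base.Cores
import Cfsg.Agent.Lib.Base.Frattini
import Cfsg.Agent.Lib.Base.Transport
import Cfsg.Agent.Lib.Coprime.Action
import Cfsg.Prelude.Def_Solvable
import Cfsg.Prelude.Def_LocalEven

/-!
Groups in which the centraliser of every non-central `p`-element is solvable: reduction of the
bound on alternating sections to `p`-by-alternating groups.
-/

set_option autoImplicit false
set_option linter.style.haveILetI false

namespace CfsgLib.AltCent

open Equiv
open scoped commutatorElement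

universe u

/-- A `p`-by-`A_n` group in which non-central `p`-elements have solvable centralisers. -/
structure Setup (p n : ℕ) (H : Type u) [Group H] (π : H →* Perm (Fin n)) : Prop where
  range : π.range = alternatingGroup (Fin n)
  ker : IsPGroup p π.ker
  perfect : commutator H = ⊤
  solv : ∀ x : H, x ∉ Subgroup.center H → (∃ k : ℕ, orderOf x = p ^ k) →
    Group.IsSolvable (Subgroup.centralizer ({x} : Set H))

variable {p : ℕ}

/-- Modulo a normal `p'`-subgroup, centralisers of `p`-elements are images of centralisers. -/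
theorem exists_lift_centralizer {H : Type u} [Group H] [Finite H] [hp : Fact p.Prime]
    {Q : Subgroup H} [Q.Normal] (hQ : (Nat.card Q).Coprime p) (x : H ⧸ Q)
    (hx : ∃ k : ℕ, orderOf x = p ^ k) :
    ∃ z : H, (z : H ⧸ Q) = x ∧ (∃ k : ℕ, orderOf z = p ^ k) ∧
      Subgroup.centralizer ({x} : Set (H ⧸ Q)) ≤
        (Subgroup.centralizer ({z} : Set H)).map (QuotientGroup.mk' Q) := by
  obtain ⟨g, rfl⟩ := QuotientGroup.mk_surjective x
  obtain ⟨k, hk⟩ := hx
  set A := Subgroup.zpowers (g ^ Nat.card Q) with hA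
  set z₀ := g ^ Nat.card Q with hz₀
  have hz₀k : orderOf z₀ ∣ p ^ k := by
    refine orderOf_dvd_of_pow_eq_one ?_
    rw [hz₀, ← pow_mul, mul_comm, pow_mul]
    have h1 : g ^ p ^ k ∈ Q := by
      rw [← QuotientGroup.eq_one_iff, QuotientGroup.mk_pow, ← hk, pow_orderOf_eq_one]
    have h2 := pow_card_eq_one' (x := (⟨g ^ p ^ k, h1⟩ : Q))
    exact congrArg Subtype.val h2
  obtain ⟨u, hu⟩ : ∃ u : ℕ, Nat.card Q * u ≡ 1 [MOD p ^ (k + 1)] := by
    obtain ⟨u, -, hu⟩ := Nat.exists_mul_mod_eq_one_of_coprime (hQ.pow_right (k + 1))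
      (one_lt_pow₀ hp.out.one_lt (Nat.succ_ne_zero k))
    refine ⟨u, ?_⟩
    unfold Nat.ModEq
    rw [hu, Nat.mod_eq_of_lt (one_lt_pow₀ hp.out.one_lt (Nat.succ_ne_zero k))]
  set z := z₀ ^ u with hz
  have hzk : orderOf z ∣ p ^ k := (orderOf_pow_dvd (x := z₀) u).trans hz₀k
  obtain ⟨i, -, hi⟩ := (Nat.dvd_prime_pow hp.out).1 hzk
  have hzg : (z : H ⧸ Q) = (g : H ⧸ Q) := by
    rw [hz, hz₀, ← pow_mul, QuotientGroup.mk_pow]
    conv_rhs => rw [← pow_one (g : H ⧸ Q)]
    rw [pow_eq_pow_iff_modEq, hk]
    exact Nat.ModEq.of_mul_right p (by rw [← pow_succ]; exact hu)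
  refine ⟨z, hzg, ⟨i, hi⟩, fun y hy => ?_⟩
  obtain ⟨y, rfl⟩ := QuotientGroup.mk_surjective y
  have hcomm : ∀ a ∈ Subgroup.zpowers z, y⁻¹ * (a * y * a⁻¹) ∈ Q := by
    rintro a ⟨m, rfl⟩
    rw [← QuotientGroup.eq_one_iff]
    have h1 : Commute (g : H ⧸ Q) (y : H ⧸ Q) :=
      Subgroup.mem_centralizer_singleton_iff.1 hy |>.symm
    simp only [QuotientGroup.mk_mul, QuotientGroup.mk_inv, QuotientGroup.mk_zpow, hzg]
    rw [(h1.zpow_left m).eq, mul_inv_cancel_right, inv_mul_cancel]
  have hcop : (Nat.card (Subgroup.zpowers z)).Coprime (Nat.card Q) := by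
    rw [Nat.card_zpowers, hi]
    exact hQ.symm.pow_left i
  obtain ⟨c, hc, hcy⟩ := CfsgLib.Coprime.exists_centralizing_in_coset (A := Subgroup.zpowers z)
    (N := Q) Subgroup.le_normalizer_of_normal hcop (Or.inl inferInstance) hcomm
  refine ⟨c, ?_, ?_⟩
  · exact Subgroup.mem_centralizer_singleton_iff.2
      ((Subgroup.mem_centralizer_iff.1 hc z (Subgroup.mem_zpowers z)).symm)
  · exact (QuotientGroup.eq.2 hcy).symm

/-- The kernel of a minimal cover is contained in the Frattini subgroup. -/
theorem ker_le_frattini {H : Type u} [Group H] [Finite H] {X : Type*} [Group X] (π : H →* X)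
    (hmin : ∀ M : Subgroup H, M.map π = π.range → M = ⊤) : π.ker ≤ frattini H := by
  refine le_iInf₂ fun M hM => ?_
  by_contra h
  have htop : M ⊔ π.ker = ⊤ := hM.2 _ (lt_of_le_of_ne le_sup_left fun he =>
    h (le_sup_right.trans he.ge))
  refine hM.1 (hmin M ?_)
  rw [MonoidHom.range_eq_map, ← htop, Subgroup.map_sup, (Subgroup.map_eq_bot_iff _).2 le_rfl,
    sup_bot_eq]

variable {G : Type u} [Group G] [Finite G]

theorem commutator_alt {n : ℕ} (hn : 5 ≤ n) :
    ⁅alternatingGroup (Fin n), alternatingGroup (Fin n)⁆ = alternatingGroup (Fin n) :=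
  commutator_alternatingGroup_eq_self (by simpa using hn)

/-- A minimal section reduces to a `Setup`. -/
theorem exists_setup [hp : Fact p.Prime] {d n : ℕ} (hn : 5 ≤ n) (hnd : n ≤ d)
    (h : ∀ x : G, x ∉ Subgroup.center G → (∃ k : ℕ, orderOf x = p ^ k) →
      Group.IsSolvable (Subgroup.centralizer ({x} : Set G)))
    (hinv : Cfsg.Involves (alternatingGroup (Fin d)) G) :
    ∃ (H : Type u) (_ : Group H) (_ : Finite H) (π : H →* Perm (Fin n)), Setup p n H π := by
  classical
  obtain ⟨K, R, hR, ⟨iso⟩⟩ := hinv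
  haveI := hR
  let ι : alternatingGroup (Fin n) →* alternatingGroup (Fin d) :=
    ((Perm.viaEmbeddingHom (Fin.castLEEmb hnd)).comp
      (alternatingGroup (Fin n)).subtype).codRestrict _ (fun σ => by
        rw [Perm.mem_alternatingGroup, MonoidHom.comp_apply, Perm.viaEmbeddingHom_apply,
          Perm.viaEmbedding, Perm.sign_extendDomain]
        exact Perm.mem_alternatingGroup.1 σ.2)
  have hι : Function.Injective ι := fun σ τ hστ =>
    Subtype.ext (Perm.viaEmbeddingHom_injective _ (congrArg Subtype.val hστ))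
  let ψ : K →* alternatingGroup (Fin d) := iso.toMonoidHom.comp (QuotientGroup.mk' _)
  have hψ : Function.Surjective ψ := iso.surjective.comp (QuotientGroup.mk'_surjective _)
  let K₁ : Subgroup K := ι.range.comap ψ
  let ρ : K₁ →* Perm (Fin n) := (alternatingGroup (Fin n)).subtype.comp
    ((MonoidHom.ofInjective hι).symm.toMonoidHom.comp
      ((ψ.comp K₁.subtype).codRestrict ι.range fun g => g.2))
  have hρ : ρ.range = alternatingGroup (Fin n) := by
    refine le_antisymm ?_ fun σ hσ => ?_
    · rintro _ ⟨g, rfl⟩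
      exact ((MonoidHom.ofInjective hι).symm _).2
    · obtain ⟨g, hg⟩ := hψ (ι ⟨σ, hσ⟩)
      have hgK : g ∈ K₁ := ⟨⟨σ, hσ⟩, hg.symm⟩
      refine ⟨⟨g, hgK⟩, ?_⟩
      have : (MonoidHom.ofInjective hι).symm ⟨ψ g, hgK⟩ = ⟨σ, hσ⟩ := by
        rw [MulEquiv.symm_apply_eq]
        exact Subtype.ext hg
      exact congrArg Subtype.val this
  have hex : ∃ m, ∃ M : Subgroup K₁, M.map ρ = ρ.range ∧ Nat.card M = m :=
    ⟨_, ⊤, (MonoidHom.range_eq_map ρ).symm, rfl⟩
  obtain ⟨M, hMρ, hMc⟩ := Nat.find_spec hex
  let π := ρ.comp M.subtype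
  have hπr : π.range = alternatingGroup (Fin n) := by
    rw [MonoidHom.range_comp, Subgroup.range_subtype, hMρ, hρ]
  have hmin : ∀ L : Subgroup M, L.map π = π.range → L = ⊤ := by
    intro L hL
    by_contra hne
    have h1 : (L.map M.subtype).map ρ = ρ.range := by
      rw [Subgroup.map_map, hL, hπr, hρ]
    have h2 := Nat.find_min' hex ⟨_, h1, rfl⟩
    have h3 : L.map M.subtype = M := Subgroup.eq_of_le_of_card_ge (Subgroup.map_subtype_le L)
      (by omega)
    refine hne (Subgroup.map_injective M.subtype_injective ?_)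
    rw [h3, ← MonoidHom.range_eq_map, Subgroup.range_subtype]
  -- the kernel is nilpotent
  haveI hnil : Group.IsNilpotent (frattini M) := frattini_nilpotent
  have hKΦ : π.ker ≤ frattini M := ker_le_frattini π hmin
  haveI : Group.IsNilpotent π.ker :=
    Group.nilpotent_of_mulEquiv (Subgroup.subgroupOfEquivOfLe hKΦ)
  let Q : Subgroup M := (Cfsg.pPrimeCore p π.ker).map π.ker.subtype
  haveI : Q.Normal := CfsgLib.Base.normal_map_subtype _
  have hQc : (Nat.card Q).Coprime p := by
    rw [CfsgLib.Base.card_map_subtype]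
    exact CfsgLib.Base.pPrimeCore_coprime p π.ker
  have hidx : ∀ a : π.ker, ∃ k : ℕ, a ^ p ^ k ∈ Cfsg.pPrimeCore p π.ker := by
    intro a
    have hne : orderOf a ≠ 0 := (orderOf_pos a).ne'
    refine ⟨(orderOf a).factorization p, ?_⟩
    set b := a ^ p ^ (orderOf a).factorization p with hb
    have hbo : (orderOf b).Coprime p := by
      rw [hb, orderOf_pow' _ (pow_ne_zero _ hp.out.ne_zero),
        Nat.gcd_eq_right (Nat.ordProj_dvd _ p)]
      exact (Nat.coprime_ordCompl hp.out hne).symm
    -- a nilpotent group: `b` lies in the product of the Sylow subgroups for the other primes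
    have key : ∀ m, ∀ c : π.ker, orderOf c = m → (orderOf c).Coprime p →
        c ∈ Cfsg.pPrimeCore p π.ker := by
      intro m
      induction m using Nat.recOnPrimeCoprime with
      | zero => intro c hc _; exact absurd hc (orderOf_pos c).ne'
      | prime_pow q i hq =>
        intro c hc hcp
        haveI := Fact.mk hq
        rcases Nat.eq_zero_or_pos i with rfl | hi
        · rw [pow_zero, orderOf_eq_one_iff] at hc
          rw [hc]; exact one_mem _
        have hcq : IsPGroup q (Subgroup.zpowers c) :=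
          IsPGroup.of_card ((Nat.card_zpowers c).trans hc)
        obtain ⟨S, hS⟩ := hcq.exists_le_sylow
        have hpq : p ≠ q := by
          rintro rfl
          rw [hc, Nat.coprime_pow_left_iff hi, Nat.coprime_self] at hcp
          exact hp.out.ne_one hcp
        haveI : (S : Subgroup π.ker).Normal :=
          Sylow.normal_of_normalizerCondition Group.normalizerCondition_of_isNilpotent S
        refine CfsgLib.Base.le_pPrimeCore ?_ (hS (Subgroup.mem_zpowers c))
        obtain ⟨j, hj⟩ := IsPGroup.iff_card.1 S.2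
        rw [hj]
        exact ((Nat.coprime_primes hq hp.out).2 hpq.symm).pow_left j
      | coprime a b ha hb hab iha ihb =>
        intro c hc hcp
        have h1 : orderOf (c ^ b) = a := by
          rw [orderOf_pow' c (by omega), hc, Nat.gcd_mul_left_left, Nat.mul_div_cancel _ (by omega)]
        have h2 : orderOf (c ^ a) = b := by
          rw [orderOf_pow' c (by omega), hc, Nat.gcd_mul_right_left,
            Nat.mul_div_cancel_left _ (by omega)]
        rw [hc, Nat.coprime_mul_iff_left] at hcp
        have h3 := iha _ h1 (by rw [h1]; exact hcp.1)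
        have h4 := ihb _ h2 (by rw [h2]; exact hcp.2)
        have h5 : Int.gcd (b : ℤ) (a : ℤ) = 1 := by
          rw [Int.gcd_natCast_natCast]; exact hab.symm
        have h6 := Int.gcd_eq_gcd_ab (b : ℤ) (a : ℤ)
        rw [h5] at h6
        have h7 : c = (c ^ b) ^ Int.gcdA b a * (c ^ a) ^ Int.gcdB b a := by
          rw [← zpow_natCast c b, ← zpow_natCast c a, ← zpow_mul, ← zpow_mul, ← zpow_add, ← h6,
            Nat.cast_one, zpow_one]
        rw [h7]
        exact mul_mem (zpow_mem h3 _) (zpow_mem h4 _)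
    exact key _ b rfl hbo
  have hQker : Q ≤ π.ker := Subgroup.map_subtype_le _
  let π' : M ⧸ Q →* Perm (Fin n) := QuotientGroup.lift Q π hQker
  have hperf : commutator M = ⊤ := by
    refine hmin _ ?_
    rw [map_commutator_eq, hπr]
    exact commutator_alt hn
  refine ⟨M ⧸ Q, inferInstance, inferInstance, π', ?_, ?_, ?_, ?_⟩
  · refine le_antisymm ?_ ?_
    · rintro _ ⟨x, rfl⟩
      obtain ⟨x, rfl⟩ := QuotientGroup.mk_surjective x
      exact hπr ▸ ⟨x, rfl⟩
    · rw [← hπr]
      rintro _ ⟨x, rfl⟩
      exact ⟨(x : M ⧸ Q), rfl⟩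
  · rintro ⟨x, hx⟩
    obtain ⟨x, rfl⟩ := QuotientGroup.mk_surjective x
    obtain ⟨k, hk⟩ := hidx ⟨x, hx⟩
    refine ⟨k, Subtype.ext ?_⟩
    rw [SubmonoidClass.coe_pow, ← QuotientGroup.mk_pow, OneMemClass.coe_one,
      QuotientGroup.eq_one_iff]
    exact ⟨_, hk, rfl⟩
  · rw [← Subgroup.map_top_of_surjective _ (QuotientGroup.mk'_surjective Q), ← hperf,
      map_commutator_eq, MonoidHom.range_eq_top.2 (QuotientGroup.mk'_surjective Q)]
    rfl
  · intro x hxc hx
    obtain ⟨z, hz, hzo, hzc⟩ := exists_lift_centralizer hQc x hx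
    have hzG : ((z : K₁) : K).1 ∉ Subgroup.center G := fun hcen => hxc <| by
      rw [← hz, Subgroup.mem_center_iff]
      intro g
      obtain ⟨g, rfl⟩ := QuotientGroup.mk_surjective g
      rw [← QuotientGroup.mk_mul, ← QuotientGroup.mk_mul]
      congr 1
      exact Subtype.ext (Subtype.ext (Subtype.ext (Subgroup.mem_center_iff.1 hcen _)))
    let e : M →* G := K.subtype.comp (K₁.subtype.comp M.subtype)
    have he : ∀ a b : M, e a = e b → a = b := fun a b hab =>
      M.subtype_injective (K₁.subtype_injective (K.subtype_injective hab))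
    have hsol := h _ hzG (by
      obtain ⟨k, hk⟩ := hzo
      exact ⟨k, by rw [← hk]; exact orderOf_injective e (fun a b => he a b) z⟩)
    haveI : Group.IsSolvable (Subgroup.centralizer ({e z} : Set G)) := hsol
    let f : Subgroup.centralizer ({z} : Set M) →*
        Subgroup.centralizer ({e z} : Set G) :=
      (e.comp (Subgroup.centralizer ({z} : Set M)).subtype).codRestrict _ fun g =>
        Subgroup.mem_centralizer_singleton_iff.2 (by
          have := congrArg e (Subgroup.mem_centralizer_singleton_iff.1 g.2)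
          simpa using this)
    haveI : Group.IsSolvable (Subgroup.centralizer ({z} : Set M)) :=
      Group.isSolvable_of_isSolvable_injective (f := f) fun a b hab =>
        Subtype.ext (he _ _ (by simpa [f] using congrArg Subtype.val hab))
    haveI : Group.IsSolvable ((Subgroup.centralizer ({z} : Set M)).map (QuotientGroup.mk' Q)) :=
      Group.isSolvable_of_surjective (MonoidHom.subgroupMap_surjective (QuotientGroup.mk' Q) _)
    exact Group.isSolvable_of_isSolvable_injective (Subgroup.inclusion_injective hzc)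

end CfsgLib.AltCent
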