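import Cfsg.Agent.Lib.AltCent.Lift
import Cfsg.Agent.Lib.Base.Nilpotent

/-!
Stabilisers modulo the centre, and the bottom section of the kernel.
-/

set_option autoImplicit false
set_option linter.style.haveILetI false

namespace CfsgLib.AltCent

open Equiv

universe u

variable {p n : ℕ} {H : Type u} [Group H] {π : H →* Perm (Fin n)}

/-- A non-central `p`-element is not centralised modulo the centre by a non-solvable subgroup. -/
theorem false_of_stab (hs : Setup p n H π) {U : Subgroup H} {X : Subgroup (Perm (Fin n))}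
    (hUX : X ≤ U.map π) (hX : ¬ Group.IsSolvable X) {z : H} (hzc : z ∉ Subgroup.center H)
    (hzp : ∃ k : ℕ, orderOf z = p ^ k)
    (hU : ∀ u ∈ U, u * z * u⁻¹ * z⁻¹ ∈ Subgroup.center H) : False := by
  apply hX
  haveI := hs.solv z hzc hzp
  let δ : U →* Subgroup.center H :=
    MonoidHom.mk' (fun u => ⟨u.1 * z * u.1⁻¹ * z⁻¹, hU _ u.2⟩) fun a b => by
      refine Subtype.ext ?_
      show (a.1 * b.1) * z * (a.1 * b.1)⁻¹ * z⁻¹ =
        (a.1 * z * a.1⁻¹ * z⁻¹) * (b.1 * z * b.1⁻¹ * z⁻¹)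
      set c := b.1 * z * b.1⁻¹ * z⁻¹ with hc
      have hcc : ∀ g : H, g * c = c * g := Subgroup.mem_center_iff.1 (hU _ b.2)
      have h1 : (a.1 * b.1) * z * (a.1 * b.1)⁻¹ = (a.1 * c) * z * a.1⁻¹ := by rw [hc]; group
      rw [h1, hcc a.1, hcc (a.1 * z * a.1⁻¹ * z⁻¹)]
      group
  haveI : IsMulCommutative (Subgroup.center H) := Subgroup.center.isMulCommutative H
  haveI : Group.IsSolvable (Subgroup.center H) :=
    Group.isSolvable_of_comm fun a b => IsMulCommutative.is_comm.comm a b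
  haveI : Group.IsSolvable δ.ker := by
    refine Group.isSolvable_of_isSolvable_injective
      (f := (U.subtype.comp δ.ker.subtype).codRestrict (Subgroup.centralizer ({z} : Set H))
        fun u => Subgroup.mem_centralizer_singleton_iff.2 ?_) fun a b hab => ?_
    · have h := congrArg Subtype.val (MonoidHom.mem_ker.1 u.2)
      show (u.1 : H) * z = z * (u.1 : H)
      exact mul_inv_eq_iff_eq_mul.1 (mul_inv_eq_one.1 h)
    · have h := congrArg Subtype.val hab
      exact Subtype.ext (Subtype.ext h)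
  haveI : Group.IsSolvable U :=
    Group.isSolvable_of_ker_le_range δ.ker.subtype δ (by rw [Subgroup.range_subtype])
  haveI : Group.IsSolvable (U.map π) :=
    Group.isSolvable_of_surjective (MonoidHom.subgroupMap_surjective π U)
  exact Group.isSolvable_of_isSolvable_injective (Subgroup.inclusion_injective hUX)

theorem exists_orderOf_ker [Finite H] [Fact p.Prime] (hs : Setup p n H π) {z : H}
    (hz : z ∈ π.ker) : ∃ k : ℕ, orderOf z = p ^ k := by
  obtain ⟨k, hk⟩ := IsPGroup.iff_orderOf.1 hs.ker ⟨z, hz⟩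
  exact ⟨k, by rw [← hk, Subgroup.orderOf_mk]⟩

/-- The centralised `p`-element modulo a central kernel. -/
theorem false_of_central [Finite H] [hp : Fact p.Prime] (hn : 5 ≤ n) (hs : Setup p n H π)
    (hK : π.ker ≤ Subgroup.center H) {x : Perm (Fin n)} (hxA : x ∈ alternatingGroup (Fin n))
    (hx1 : x ≠ 1) (hxp : ∃ k : ℕ, orderOf x = p ^ k)
    {X : Subgroup (Perm (Fin n))} (hXA : X ≤ alternatingGroup (Fin n))
    (hns : ¬ Group.IsSolvable X) (hcomm : ∀ m ∈ X, Commute m x) : False := by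
  obtain ⟨z, hz⟩ := (hs.range.symm ▸ hxA : x ∈ π.range)
  obtain ⟨k, hk⟩ := hxp
  refine false_of_stab hs (U := X.comap π) (X := X) ?_ hns (z := z) ?_ ?_ ?_
  · rw [Subgroup.map_comap_eq, hs.range, inf_eq_right.2 hXA]
  · intro hc
    exact hx1 (hz ▸ MonoidHom.mem_ker.1 (center_le_ker hn hs.range hc))
  · have hT : IsPGroup p ((Subgroup.zpowers x).comap π) :=
      isPGroup_comap hs (IsPGroup.of_card ((Nat.card_zpowers x).trans hk))
    obtain ⟨i, hi⟩ := IsPGroup.iff_orderOf.1 hT ⟨z, by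
      rw [Subgroup.mem_comap, hz]; exact Subgroup.mem_zpowers x⟩
    exact ⟨i, by rw [← hi, Subgroup.orderOf_mk]⟩
  · intro u hu
    refine hK ?_
    rw [MonoidHom.mem_ker, map_mul, map_mul, map_mul, map_inv, map_inv, hz, (hcomm _ hu).eq,
      mul_inv_cancel_right, mul_inv_cancel]

/-- The smallest section of the kernel above the centre. -/
theorem exists_bottom [Finite H] [hp : Fact p.Prime] (hs : Setup p n H π)
    (hK : ¬ π.ker ≤ Subgroup.center H) :
    ∃ (Z : Subgroup H) (_ : Z.Normal) (W : Subgroup (H ⧸ Z)), W.Normal ∧ W ≠ ⊥ ∧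
      Z ≤ Subgroup.center H ∧ Z = π.ker ⊓ Subgroup.center H ∧
      W ≤ π.ker.map (QuotientGroup.mk' Z) ∧
      (∀ k ∈ π.ker.map (QuotientGroup.mk' Z), ∀ w ∈ W, k * w = w * k) ∧
      (∀ w ∈ W, w ^ p = 1) ∧
      ∀ N : Subgroup (H ⧸ Z), N.Normal → N ≤ W → N = ⊥ ∨ N = W := by
  classical
  set Z := π.ker ⊓ Subgroup.center H with hZ
  refine ⟨Z, inferInstance, ?_⟩
  set K := π.ker.map (QuotientGroup.mk' Z) with hKdef
  haveI hKn : K.Normal := Subgroup.Normal.map inferInstance _ (QuotientGroup.mk'_surjective _)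
  have hKne : K ≠ ⊥ := fun hb => hK fun x hx => by
    have h1 : QuotientGroup.mk' Z x ∈ K := Subgroup.mem_map_of_mem _ hx
    rw [hb, Subgroup.mem_bot, QuotientGroup.mk'_apply, QuotientGroup.eq_one_iff] at h1
    exact h1.2
  have hKp : IsPGroup p K := hs.ker.map _
  haveI : Group.IsNilpotent K := hKp.isNilpotent
  have hex : ∃ m, ∃ N : Subgroup (H ⧸ Z), N.Normal ∧ N ≠ ⊥ ∧ N ≤ K ∧ Nat.card N = m :=
    ⟨_, K, hKn, hKne, le_rfl, rfl⟩
  obtain ⟨W, hWn, hWne, hWK, hWc⟩ := Nat.find_spec hex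
  haveI := hWn
  have hmin : ∀ N : Subgroup (H ⧸ Z), N.Normal → N ≤ W → N = ⊥ ∨ N = W := fun N hN hNW => by
    by_cases hb : N = ⊥
    · exact Or.inl hb
    · exact Or.inr (Subgroup.eq_of_le_of_card_ge hNW
        (hWc ▸ Nat.find_min' hex ⟨N, hN, hb, hNW.trans hWK, rfl⟩))
  -- `W` is centralised by `K`
  have hcent : ∀ k ∈ K, ∀ w ∈ W, k * w = w * k := by
    haveI hWK' : (W.subgroupOf K).Normal := Subgroup.normal_subgroupOf
    have hne : W.subgroupOf K ≠ ⊥ := by
      rw [Ne, Subgroup.subgroupOf_eq_bot, disjoint_iff, inf_eq_left.2 hWK]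
      exact hWne
    have hne2 := CfsgLib.Base.inf_center_ne_bot_of_isNilpotent hne
    let Y : Subgroup (H ⧸ Z) := W ⊓ (Subgroup.center K).map K.subtype
    haveI : ((Subgroup.center K).map K.subtype).Normal := CfsgLib.Base.normal_map_subtype _
    rcases hmin Y inferInstance inf_le_left with h | h
    · refine absurd ?_ hne2
      rw [eq_bot_iff]
      intro x hx
      have h1 : (x : H ⧸ Z) ∈ Y := ⟨hx.1, x, hx.2, rfl⟩
      rw [h, Subgroup.mem_bot] at h1
      exact Subgroup.mem_bot.2 (Subtype.ext h1)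
    · intro k hk w hw
      obtain ⟨c, hc, rfl⟩ := (h ▸ hw : w ∈ Y).2
      exact congrArg Subtype.val (Subgroup.mem_center_iff.1 hc ⟨k, hk⟩)
  -- `W` has exponent `p`
  have hexp : ∀ w ∈ W, w ^ p = 1 := by
    let V : Subgroup (H ⧸ Z) :=
      { carrier := {w | w ∈ W ∧ w ^ p = 1}
        one_mem' := ⟨one_mem _, one_pow _⟩
        mul_mem' := fun {a b} ha hb => ⟨mul_mem ha.1 hb.1, by
          rw [Commute.mul_pow (hcent a (hWK ha.1) b hb.1), ha.2, hb.2, one_mul]⟩
        inv_mem' := fun {a} ha => ⟨inv_mem ha.1, by rw [inv_pow, ha.2, inv_one]⟩ }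
    haveI : V.Normal := ⟨fun w hw g => ⟨hWn.conj_mem w hw.1 g, by
      rw [conj_pow, hw.2, mul_one, mul_inv_cancel]⟩⟩
    rcases hmin V inferInstance (fun w hw => hw.1) with h | h
    · exfalso
      have hWp : IsPGroup p W := hKp.to_le hWK
      haveI : Nontrivial W := (Subgroup.nontrivial_iff_ne_bot W).2 hWne
      obtain ⟨j, hj0, hj⟩ := hWp.nontrivial_iff_card.1 inferInstance
      obtain ⟨x, hx⟩ := exists_prime_orderOf_dvd_card' p (G := W)
        (by rw [hj]; exact dvd_pow_self p hj0.ne')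
      have h1 : (x : H ⧸ Z) ∈ V :=
        ⟨x.2, by rw [← SubmonoidClass.coe_pow, ← hx, pow_orderOf_eq_one]; rfl⟩
      rw [h, Subgroup.mem_bot, OneMemClass.coe_eq_one] at h1
      rw [h1, orderOf_one] at hx
      exact hp.out.one_lt.ne hx
    · exact fun w hw => (h ▸ hw : w ∈ V).2
  exact ⟨W, hWn, hWne, inf_le_right, rfl, hWK, hcent, hexp, hmin⟩

end CfsgLib.AltCent
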