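import Cfsg.Agent.Lib.AltCent.Bottom
import Cfsg.Agent.Lib.AltCent.Two.Perfect

/-!
The prime two.
-/

set_option autoImplicit false
set_option linter.style.haveILetI false

namespace CfsgLib.AltCent

open Equiv

universe u

/-- There is no set-up for the prime two in degree nine. -/
theorem false_two {H : Type u} [Group H] [Finite H] {π : H →* Perm (Fin 9)}
    [hp : Fact (Nat.Prime 2)] (hs : Setup 2 9 H π) : False := by
  by_cases hK : π.ker ≤ Subgroup.center H
  · let x : Perm (Fin 9) := swap 0 1 * swap 2 3
    have hx1 : x ≠ 1 := by decide +kernel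
    refine false_of_central_block (by norm_num) hs hK (x := x) (by decide +kernel) hx1
      ⟨1, ?_⟩ (Fin.natAddEmb 4) (by decide +kernel)
    rw [pow_one]
    exact orderOf_eq_prime (by decide +kernel) hx1
  · refine false_of_module hs hK fun A _ ρ h1 hmul h2 hnf a => ?_
    refine Two.universal (M := ⟨ρ, h1, hmul, fun b => by rw [← two_nsmul]; exact h2 b⟩)
      (fun i hi b hba hbb => ?_) a
    have he := List.all_eq_true.1 Two.grpCheck_ok _ (Two.getD_mem Two.grps (0, 0) hi)
    rw [Bool.and_eq_true] at he
    exact hnf _ _ (Two.rep9_of_even9 he.1).2 (Two.rep9_of_even9 he.2).2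
      (Two.not_isSolvable_listed hi) b hba hbb

end CfsgLib.AltCent
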